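import Cfsg.Agent.H439.Der.Tools
import Cfsg.Agent.H947.El.Ree
import Cfsg.Agent.S2127

/-!
# One class of derangements: the Ree groups (S3500, helper768)

`eq_top` (after helper947's `ReeF.eq_top`), `two_ree`, `row_ree`.
-/

set_option autoImplicit false

namespace Cfsg.Agent.H768.Der

open MulAction Subgroup Cfsg Cfsg.Agent.H396 Cfsg.Agent.H394.SqBasic Cfsg.Agent.H947.El Cfsg.Agent.H439.Der

section

set_option linter.unusedSectionVars false

variable {R : Type*} [Group R] [Finite R] {m q r ρ : ℕ} (h : ReeF R m q r) (n : ReeN m q r ρ)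

include h n

/-- no elementary abelian `p`-subgroup is normalised by `M` if `M` has `ρ` and `s` -/
theorem not_elem (M : Subgroup R) (hρM : ρ ∣ Nat.card M) {s : ℕ} (hs : s.Prime)
    (hsd : s ∣ (q - 1) / 2) (hsM : s ∣ Nat.card M) {p : ℕ} (hp : p.Prime)
    {E : Subgroup R} (hE : IsPGroup p E) (hE1 : E ≠ ⊥) (hEe : ∀ x ∈ E, x ^ p = 1)
    (hn : M ≤ Subgroup.normalizer (E : Set R)) : False := by
  have : Fact ρ.Prime := ⟨n.pr⟩
  have : Fact p.Prime := ⟨hp⟩
  have h27 := n.q27
  have h19 := n.q19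
  have hge := n.ge
  have hm := h.hm
  have hρR : ρ ∣ Nat.card R := by rw [h.card, n.cube]; exact (n.dvd.mul_left _).mul_left _
  obtain ⟨x, hx⟩ := exists_prime_orderOf_dvd_card' (G := M) ρ hρM
  have hxo : orderOf (x : R) = ρ := by rw [Subgroup.orderOf_coe, hx]
  have hnt : Nontrivial E := (Subgroup.nontrivial_iff_ne_bot E).2 hE1
  have hcE : 1 < Nat.card E := Finite.one_lt_card
  obtain ⟨a, ha⟩ := (IsPGroup.iff_card).1 hE
  have ha0 : 0 < a := by
    rcases Nat.eq_zero_or_pos a with rfl | ha0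
    · rw [pow_zero] at ha; omega
    · exact ha0
  rcases Nat.lt_or_ge 3 p with h3p | hp3
  · -- `p > 3`
    have hcyc := h.cyc p hp h3p E hE
    have hEp : Nat.card E = p := by
      have h1 : Monoid.exponent E ∣ p := by
        rw [Monoid.exponent_dvd_iff_forall_pow_eq_one]
        intro y
        exact Subtype.ext (hEe y y.2)
      rw [IsCyclic.exponent_eq_card] at h1
      rcases (Nat.dvd_prime hp).1 h1 with h2 | h2
      · omega
      · exact h2
    obtain ⟨A, hAc, hEA, hA⟩ := h.norm p hp h3p E hEp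
    have hρN : ρ ∣ Nat.card (Subgroup.normalizer (E : Set R)) :=
      hρM.trans (Subgroup.card_dvd_of_le hn)
    have hq4 := n.q4
    have hsq : s ∣ q - 1 := hsd.trans (Nat.div_dvd_of_dvd (by omega))
    have hsN : s ∣ Nat.card (Subgroup.normalizer (E : Set R)) :=
      hsM.trans (Subgroup.card_dvd_of_le hn)
    rcases hA with ⟨hA1, hA2⟩ | ⟨hA1, hA2⟩ | ⟨hA1, hA2⟩
    · rw [hA2, show 4 * Nat.card A = 2 * (2 * Nat.card A) by ring, hA1] at hρN
      rcases n.pr.dvd_mul.1 hρN with h1 | h1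
      · have := Nat.le_of_dvd (by norm_num) h1; omega
      · exact n.nq1 h1
    · rw [hA2, show 24 * Nat.card A = 6 * (4 * Nat.card A) by ring, hA1] at hρN
      rcases n.pr.dvd_mul.1 hρN with h1 | h1
      · have := Nat.le_of_dvd (by norm_num) h1; omega
      · exact n.nqp h1
    · rw [hA2] at hsN
      rcases hs.dvd_mul.1 hsN with h1 | h1
      · have h2 : s = 2 ∨ s = 3 := by
          have := Nat.le_of_dvd (by norm_num) h1
          have := hs.two_le
          interval_cases s <;> first | omega | (exfalso; revert hs; decide)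
        have hq3 := n.q3
        rcases h2 with rfl | rfl <;> omega
      · have h2 : Nat.card A ∣ q ^ 2 - q + 1 := by
          rw [n.fac]
          rcases hA1 with hA1 | hA1
          · rw [hA1]; exact dvd_mul_right _ _
          · rw [hA1]; exact dvd_mul_left _ _
        have h3 := h1.trans h2
        have h4 : q ^ 2 - q = (q - 1) * q := by rw [Nat.sub_mul, one_mul, pow_two]
        rw [h4] at h3
        exact hs.one_lt.ne' (Nat.dvd_one.1 ((Nat.dvd_add_right (hsq.mul_right _)).1 h3))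
  · have hp23 : p = 2 ∨ p = 3 := by
      have := hp.two_le
      omega
    have h1 := h.card_sub_one n hxo hp23 hE (hn x.2)
    rcases hp23 with rfl | rfl
    · have := (h.pow_two_le n hE).1
      have := Nat.le_of_dvd (by omega) h1
      omega
    · rw [ha] at h1
      have h2 := Nat.le_of_dvd ha0 ((n.iff a).1 h1)
      have h3 : 3 ^ a ∣ q ^ 3 * (q - 1) * (q ^ 3 + 1) := by
        rw [← ha, ← h.card]; exact Subgroup.card_subgroup_dvd_card _
      have h4 : Nat.Coprime (3 ^ a) (q - 1) := by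
        apply Nat.Coprime.pow_left
        rw [Nat.prime_three.coprime_iff_not_dvd]
        have := n.q3
        omega
      have h5 : Nat.Coprime (3 ^ a) (q ^ 3 + 1) := by
        apply Nat.Coprime.pow_left
        rw [Nat.prime_three.coprime_iff_not_dvd]
        intro h6
        have h7 : 3 ∣ q ^ 3 := n.q3.pow (by norm_num)
        omega
      have h6 := h4.dvd_of_dvd_mul_right (h5.dvd_of_dvd_mul_right h3)
      rw [h.hq, ← pow_mul] at h6
      have h7 := (Nat.pow_dvd_pow_iff_le_right (by norm_num)).1 h6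
      omega

/-- subgroups of `²G₂(q)` whose order is divisible by `ρ` and by a prime `s` of `(q - 1) / 2` -/
theorem eq_top (M : Subgroup R) (hρM : ρ ∣ Nat.card M) {s : ℕ} (hs : s.Prime) (hsd : s ∣ (q - 1) / 2)
    (hsM : s ∣ Nat.card M) : M = ⊤ := by
  classical
  have hf2 : Fact (Nat.Prime 2) := ⟨Nat.prime_two⟩
  have hρR : ρ ∣ Nat.card R := by rw [h.card, n.cube]; exact (n.dvd.mul_left _).mul_left _
  have h19 := n.q19
  have h16 : ¬ 16 ∣ Nat.card R := by
    intro h1
    obtain ⟨S⟩ : Nonempty (Sylow 2 R) := inferInstance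
    have h2 := (h.syl2 S).1
    rw [S.card_eq_multiplicity] at h2
    have h3 : 4 ≤ (Nat.card R).factorization 2 :=
      (Nat.prime_two.pow_dvd_iff_le_factorization Nat.card_pos.ne').1 (by norm_num; exact h1)
    have h4 : 2 ^ 4 ≤ 2 ^ (Nat.card R).factorization 2 := Nat.pow_le_pow_right (by norm_num) h3
    omega
  have hnt : Nontrivial M := by
    rw [← Finite.one_lt_card_iff_nontrivial]
    have := Nat.le_of_dvd Nat.card_pos hρM
    omega
  obtain ⟨N, hN, hN1, hmin⟩ := Cfsg.Agent.Lib.SubnormalJoin.exists_minimal_normal M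
  obtain ⟨T, k, hTN, hTs, hk, ⟨e⟩⟩ := Cfsg.Agent.Lib.MinNormal.exists_mulEquiv_pi N hN1 hmin
  by_cases hT : IsMulCommutative T
  · exfalso
    have hab : ∀ x ∈ N, ∀ y ∈ N, Commute x y := by
      intro x hx y hy
      have h1 : (⟨x, hx⟩ : N) * ⟨y, hy⟩ = ⟨y, hy⟩ * ⟨x, hx⟩ := by
        apply e.injective
        rw [map_mul, map_mul]
        funext i
        exact hT.is_comm.comm _ _
      exact congrArg Subtype.val h1
    obtain ⟨p, hp, hpN, hexp⟩ := Cfsg.Agent.Lib.MinNormalNonabelian.abelian_structure N hN1 hmin hab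
    refine not_elem h n M hρM hs hsd hsM hp (E := N.map M.subtype) (hpN.map _) ?_ ?_ ?_
    · intro hb
      rw [Subgroup.map_eq_bot_iff_of_injective _ M.subtype_injective] at hb
      exact hN1 hb
    · rintro _ ⟨x, hx, rfl⟩
      rw [← map_pow, hexp x hx, map_one]
    · have h1 := Subgroup.le_normalizer_map (H := N) M.subtype
      rw [Subgroup.normalizer_eq_top N, ← MonoidHom.range_eq_map, Subgroup.range_subtype] at h1
      exact h1
  · have hTns : ¬ Group.IsSolvable T := by
      intro h1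
      have h2 := IsSimpleGroup.comm_iff_isSolvable (G := T) |>.2 h1
      exact hT ⟨⟨h2⟩⟩
    have h4T : 4 ∣ Nat.card T := by
      by_contra h4
      exact hTns (Cfsg.Agent.CpAut.SmallP.isSolvable_of_not_four_dvd h4)
    have hcN : Nat.card N = Nat.card T ^ k := by
      rw [Nat.card_congr e.toEquiv, Nat.card_pi, Finset.prod_const, Finset.card_univ, Fintype.card_fin]
    have hNR : Nat.card N ∣ Nat.card R := (Subgroup.card_subgroup_dvd_card N).trans (Subgroup.card_subgroup_dvd_card M)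
    have hk1 : k = 1 := by
      by_contra hk1
      apply h16
      refine dvd_trans ?_ hNR
      rw [hcN]
      calc 16 = 4 ^ 2 := by norm_num
        _ ∣ Nat.card T ^ 2 := pow_dvd_pow_of_dvd h4T 2
        _ ∣ Nat.card T ^ k := pow_dvd_pow _ (by omega)
    subst hk1
    have e' : T ≃* N := ((MulEquiv.piUnique (fun _ : Fin 1 => T)).symm).trans e.symm
    have hNs : IsSimpleGroup N := e'.symm.isSimpleGroup
    have hNna : ¬ IsMulCommutative N := by
      intro h1
      apply hT
      refine ⟨⟨fun a b => ?_⟩⟩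
      apply e'.injective
      rw [map_mul, map_mul]
      exact h1.is_comm.comm _ _
    have h4N : 4 ∣ Nat.card N := by rw [hcN, pow_one]; exact h4T
    have hρN := h.dvd_of_simple n M hρM N h4N
    have h5 := h.card_of_simple n (M.subtype.comp N.subtype) (M.subtype_injective.comp N.subtype_injective) hNs hNna hρN
    have h6 : Nat.card N ≤ Nat.card M := Subgroup.card_le_card_group N
    exact Subgroup.eq_top_of_le_card M (h5.trans h6)

end

/-- `37` for `q = 27` -/
theorem reeN_37 : ReeN 1 27 9 37 := by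
  have hord : orderOf ((3 : ℕ) : ZMod 37) = 18 := by
    rw [orderOf_eq_iff (by norm_num)]
    refine ⟨by decide, ?_⟩
    decide
  exact ⟨le_rfl, by norm_num, by norm_num, by norm_num, by norm_num, by norm_num, by norm_num, by norm_num, by norm_num,
    fun j => by rw [Cfsg.Agent.Lib.Zsigmondy.dvd_pow_sub_one_iff (by norm_num), hord], by norm_num, by norm_num,
    by norm_num, by norm_num, by norm_num, by norm_num, by norm_num, by norm_num⟩

theorem num_le (m : ℕ) (hm : 2 ≤ m) : 12 * (2 * m + 1) < 3 ^ (2 * m + 1) := by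
  induction m, hm using Nat.le_induction with
  | base => norm_num
  | succ k hk ih =>
    have : 3 ^ (2 * (k + 1) + 1) = 9 * 3 ^ (2 * k + 1) := by ring
    rw [this]
    omega

/-- a suitable prime -/
theorem exists_rho (m : ℕ) (hm : 1 ≤ m) : ∃ ρ, ReeN m (3 ^ (2 * m + 1)) (3 ^ (m + 1)) ρ ∧
    ∀ a, (a = 3 ^ (2 * m + 1) - 3 ^ (m + 1) + 1 ∨ a = 3 ^ (2 * m + 1) + 3 ^ (m + 1) + 1) → ρ = a →
      (2 * m + 1) * 6 < ρ - 1 := by
  rcases Nat.lt_or_ge 1 m with h2 | h1
  · obtain ⟨ρ, n⟩ := exists_reeN m hm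
    refine ⟨ρ, n, ?_⟩
    rintro a ha rfl
    have h3 := n.rq
    have h4 := num_le m h2
    rcases ha with ha | ha <;> omega
  · have hm1 : m = 1 := by omega
    subst hm1
    refine ⟨37, reeN_37, ?_⟩
    intro a _ _
    norm_num

theorem two_ree_aux {K : Type} [Field K] [Fintype K] {m : ℕ} (hm : 1 ≤ m) (hK : Fintype.card K = 3 ^ (2 * m + 1))
    (M : Subgroup ↥(Cfsg.Lie.twistedG2 K (3 ^ m))) (hM : M ≠ ⊤) : Two ↥(Cfsg.Lie.twistedG2 K (3 ^ m)) M := by
  have hfin : Finite ↥(Cfsg.Lie.twistedG2 K (3 ^ m)) := inferInstance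
  obtain ⟨ρ, n, hρ⟩ := exists_rho m hm
  have F := reeF hm hK n
  have hord := Cfsg.Agent.S1159.result hm hK
  have hq4 := n.q4
  have hq27 := n.q27
  obtain ⟨s, hs, hsd⟩ := Nat.exists_prime_and_dvd (n := (3 ^ (2 * m + 1) - 1) / 2) (by omega)
  have hsq : s ∣ 3 ^ (2 * m + 1) - 1 := hsd.trans (Nat.div_dvd_of_dvd (by omega))
  have hne : ¬ ρ ∣ Nat.card M ∨ ¬ s ∣ Nat.card M := by
    by_contra hcon
    push Not at hcon
    exact hM (eq_top F n M hcon.1 hs hsd hcon.2)
  rcases hne with h1 | h1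
  · -- `ρ`
    apply Two.of_not_dvd h1
    have hρd := n.dvd
    rw [n.fac] at hρd
    obtain ⟨a, ha, hρa⟩ : ∃ a, (a = 3 ^ (2 * m + 1) - 3 ^ (m + 1) + 1 ∨ a = 3 ^ (2 * m + 1) + 3 ^ (m + 1) + 1) ∧ ρ ∣ a := by
      rcases n.pr.dvd_mul.1 hρd with h2 | h2
      · exact ⟨_, Or.inl rfl, h2⟩
      · exact ⟨_, Or.inr rfl, h2⟩
    obtain ⟨y, hy⟩ := (hord a).2 (by
      rcases ha with rfl | rfl
      · exact Or.inr (Or.inr (Or.inr (Or.inr (Or.inl dvd_rfl))))
      · exact Or.inr (Or.inr (Or.inr (Or.inr (Or.inr dvd_rfl)))))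
    by_cases hρa' : ρ = a
    · have hx : orderOf y = ρ := by rw [hy, hρa']
      have h3 : 3 < ρ := by have := n.q19; omega
      obtain ⟨A, hAc, hEA, hA⟩ := F.norm ρ n.pr h3 (zpowers y) (by rw [Nat.card_zpowers, hx])
      have hρA : ρ ∣ Nat.card A := by
        have := Subgroup.card_dvd_of_le hEA
        rwa [Nat.card_zpowers, hx] at this
      have hN : Nat.card (normalizer (zpowers y : Set ↥(Cfsg.Lie.twistedG2 K (3 ^ m)))) = 6 * Nat.card A := by
        rcases hA with ⟨hA1, -⟩ | ⟨hA1, -⟩ | ⟨-, hA2⟩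
        · exact absurd (hA1 ▸ hρA.mul_left 2) n.nq1
        · exact absurd (hA1 ▸ hρA.mul_left 4) n.nqp
        · exact hA2
      have hAC : A ≤ centralizer ({y} : Set ↥(Cfsg.Lie.twistedG2 K (3 ^ m))) := by
        intro b hb
        rw [Subgroup.mem_centralizer_singleton_iff]
        exact congrArg Subtype.val (hAc.commGroup.mul_comm (⟨b, hb⟩ : A) ⟨y, hEA (mem_zpowers y)⟩)
      refine not_SC_of_lt n.pr hx rfl (n := 6) (o := 2 * m + 1) ?_ (Cfsg.Agent.S2127.result hm hK).le (hρ a ha hρa')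
      rw [hN]
      exact Nat.mul_le_mul_left 6 (Subgroup.card_le_of_le hAC)
    · exact not_SC_of_orderOf n.pr (y := y) (by rw [hy]; exact hρa) (by rw [hy]; exact fun h => hρa' h.symm)
  · apply Two.of_not_dvd h1
    obtain ⟨y, hy⟩ := (hord (3 ^ (2 * m + 1) - 1)).2 (Or.inr (Or.inr (Or.inl dvd_rfl)))
    refine not_SC_of_orderOf hs (y := y) (by rw [hy]; exact hsq) (by
      rw [hy]
      intro h2
      have h3 : 2 ∣ s := by rw [← h2]; omega
      have h4 := (Nat.prime_dvd_prime_iff_eq Nat.prime_two hs).1 h3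
      omega)

/-- **the Ree groups** -/
theorem two_ree {T : Type*} [Group T] (h : Cfsg.Lie.IsoRee T) (M : Subgroup T) (hM : M ≠ ⊤) : Two T M := by
  obtain ⟨K, iK, iK', m, hm, hK, ⟨e⟩⟩ := h
  refine Two.congr e.symm (two_ree_aux hm hK _ fun ht => hM ?_)
  rw [eq_top_iff]
  intro x _
  have : e x ∈ M.comap e.symm.toMonoidHom := by rw [ht]; trivial
  simpa using this

theorem row_ree {T : Type*} [Group T] (h : Cfsg.Lie.IsoRee T) : Row T :=
  fun M hM => Or.inl (two_ree h M hM.1)

end Cfsg.Agent.H768.Der
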