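import Cfsg.Agent.H439.Der.Defs
import Cfsg.Agent.H947.El.Sz

/-!
# One class of derangements: the Suzuki groups (S3500, helper768)

`two_sz` : every proper subgroup of a Suzuki group misses two primes.
-/

set_option autoImplicit false

namespace Cfsg.Agent.H768.Der

open MulAction Subgroup Cfsg Cfsg.Agent.H947.El Cfsg.Agent.H439.Der
open Cfsg.Agent.H101.SzAbs Cfsg.Agent.H101.SzGeo Cfsg.Agent.H101.SzAbs.Geo Cfsg.Agent.H101.SzSub

variable {F : Type*} [Field F] [Fintype F] {m : ℕ}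

/-- the odd primes of a subgroup of a Borel subgroup -/
theorem borel_prime (hm : 1 ≤ m) (hF : Fintype.card F = 2 ^ (2 * m + 1)) {M : Subgroup (Cfsg.Sz F m)}
    (P0 : Sylow 2 (Cfsg.Sz F m)) (hP0 : M ≤ Subgroup.normalizer ((P0 : Subgroup (Cfsg.Sz F m)) : Set (Cfsg.Sz F m)))
    {p : ℕ} (hp : p.Prime) (hp2 : p ≠ 2) (hpM : p ∣ Nat.card M) : p ∣ 2 ^ (2 * m + 1) - 1 := by
  obtain ⟨q, r, hq, hr, h8, h2q, h2r, hrq, hrr⟩ := num_sz m hm
  have hfin : Finite (Cfsg.Sz F m) := inferInstance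
  have hcardG := Cfsg.Agent.S0324.result hm hF
  rw [← hq] at hcardG ⊢
  have : Fact p.Prime := ⟨hp⟩
  obtain ⟨x, hx⟩ := exists_prime_orderOf_dvd_card' (G := M) p hpM
  have hxo : orderOf (x : Cfsg.Sz F m) = p := by rw [Subgroup.orderOf_coe, hx]
  obtain ⟨S, hSP, -⟩ := exists_sylow hm hF (inf F m)
  obtain ⟨g, hg⟩ := exists_smul_eq (Cfsg.Sz F m) P0 S
  have hy : g * (x : Cfsg.Sz F m) * g⁻¹ ∈ Subgroup.normalizer ((S : Subgroup (Cfsg.Sz F m)) : Set (Cfsg.Sz F m)) := by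
    rw [← hg, Sylow.coe_subgroup_smul]
    exact conj_mem_normalizer_map g (hP0 x.2)
  rw [hSP] at hy
  have hSne : (S : Subgroup (Cfsg.Sz F m)) ≠ ⊥ := by
    refine S.ne_bot_of_dvd_card ?_
    rw [hcardG]
    exact ((h2q.pow (by norm_num)).mul_right _).mul_right _
  obtain ⟨t, ht⟩ := Subgroup.ne_bot_iff_exists_ne_one.1 hSne
  have ht1 : (t : Cfsg.Sz F m) ≠ 1 := fun h => ht (Subtype.ext h)
  have htP : (t : Cfsg.Sz F m) ∈ P hF (inf F m) := by rw [← hSP]; exact t.2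
  set y := g * (x : Cfsg.Sz F m) * g⁻¹ with hyd
  have h1 := (Subgroup.mem_normalizer_iff.1 hy t).1 htP
  have h2 := conj_mem_P hm hF y _ _ htP
  have hne : y * t * y⁻¹ ≠ 1 := by
    intro h
    apply ht1
    calc (t : Cfsg.Sz F m) = y⁻¹ * (y * t * y⁻¹) * y := by group
      _ = 1 := by rw [h]; group
  have h3 := (geo hm hF).free (inf F m) (y • inf F m) _ h1 ((geo hm hF).le _ _ h2) hne
  have h4 : y ∈ MulAction.stabilizer (Cfsg.Sz F m) (Cfsg.suzukiPointInfinity F) := congrArg Subtype.val h3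
  have h5 := Subgroup.orderOf_dvd_natCard _ h4
  rw [Cfsg.Agent.S0329.result hm hF, ← hq] at h5
  have h6 : orderOf y = p := by rw [hyd, ← MulAut.conj_apply, MulEquiv.orderOf_eq, hxo]
  rw [h6] at h5
  rcases hp.dvd_mul.1 h5 with h7 | h7
  · have h8 := hp.dvd_of_dvd_pow h7
    rw [hq] at h8
    exact absurd ((Nat.prime_dvd_prime_iff_eq hp Nat.prime_two).1 (hp.dvd_of_dvd_pow h8)) hp2
  · exact h7

/-- the odd primes of the normaliser of a torus -/
theorem torus_prime (hm : 1 ≤ m) (hF : Fintype.card F = 2 ^ (2 * m + 1)) {M : Subgroup (Cfsg.Sz F m)}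
    (U : Subgroup (Cfsg.Sz F m)) (hc : IsCyclic U)
    (hU : Nat.card U ∈ ({2 ^ (2 * m + 1) - 1, 2 ^ (2 * m + 1) + 2 ^ (m + 1) + 1,
      2 ^ (2 * m + 1) - 2 ^ (m + 1) + 1} : Set ℕ)) (hMU : M ≤ Subgroup.normalizer (U : Set (Cfsg.Sz F m)))
    {p : ℕ} (hp : p.Prime) (hp2 : p ≠ 2) (hpM : p ∣ Nat.card M) : p ∣ Nat.card U := by
  have hfin : Finite (Cfsg.Sz F m) := inferInstance
  have : Fact p.Prime := ⟨hp⟩
  obtain ⟨x, hx⟩ := exists_prime_orderOf_dvd_card' (G := M) p hpM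
  have hxo : orderOf (x : Cfsg.Sz F m) = p := by rw [Subgroup.orderOf_coe, hx]
  have h1 := sz_normalizer hm hF U hc hU x (hMU x.2) (by rw [hxo]; exact hp) (by rw [hxo]; exact hp2)
  rwa [hxo] at h1

/-- **the Suzuki groups**: every proper subgroup misses two primes. -/
theorem two_sz_aux (hm : 1 ≤ m) (hF : Fintype.card F = 2 ^ (2 * m + 1)) (M : Subgroup (Cfsg.Sz F m)) (hM : M ≠ ⊤) :
    Two (Cfsg.Sz F m) M := by
  obtain ⟨q, r, hq, hr, h8, h2q, h2r, hrq, hrr⟩ := num_sz m hm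
  have hfin : Finite (Cfsg.Sz F m) := inferInstance
  have hcardG := Cfsg.Agent.S0324.result hm hF
  rw [← hq] at hcardG
  have e2 : q ^ 2 + 1 = (q + r + 1) * (q - r + 1) := by
    zify [show r ≤ q by omega]
    have : (r : ℤ) * r = 2 * q := by exact_mod_cast hrr
    linear_combination this
  obtain ⟨s, hs, hsd⟩ := Nat.exists_prime_and_dvd (n := q - 1) (by omega)
  obtain ⟨a, ha, had⟩ := Nat.exists_prime_and_dvd (n := q + r + 1) (by omega)
  obtain ⟨b, hb, hbd⟩ := Nat.exists_prime_and_dvd (n := q - r + 1) (by omega)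
  have hs2 : s ≠ 2 := by
    rintro rfl
    omega
  have ha2 : a ≠ 2 := by
    rintro rfl
    omega
  have hb2 : b ≠ 2 := by
    rintro rfl
    omega
  -- coprimality
  have c1 : ∀ p : ℕ, p.Prime → p ≠ 2 → p ∣ q - 1 → ¬ p ∣ q ^ 2 + 1 := by
    intro p hp hp2 h1 h2
    have h4 : q ^ 2 + 1 = (q - 1) * (q + 1) + 2 := by
      obtain ⟨t, rfl⟩ : ∃ t, q = t + 1 := ⟨q - 1, by omega⟩
      rw [Nat.add_sub_cancel]; ring
    rw [h4] at h2
    exact hp2 ((Nat.prime_dvd_prime_iff_eq hp Nat.prime_two).1 ((Nat.dvd_add_right (h1.mul_right _)).1 h2))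
  have c2 : ∀ p : ℕ, p.Prime → p ≠ 2 → p ∣ q + r + 1 → ¬ p ∣ q - r + 1 := by
    intro p hp hp2 h1 h2
    have h3 : q + r + 1 = (q - r + 1) + 2 * r := by omega
    rw [h3] at h1
    have h4 : p ∣ 2 * r := (Nat.dvd_add_right h2).1 h1
    rw [hr, ← pow_succ'] at h4
    exact hp2 ((Nat.prime_dvd_prime_iff_eq hp Nat.prime_two).1 (hp.dvd_of_dvd_pow h4))
  have haG : a ∣ q ^ 2 + 1 := by rw [e2]; exact had.mul_right _
  have hbG : b ∣ q ^ 2 + 1 := by rw [e2]; exact hbd.mul_left _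
  have hsa : s ≠ a := by rintro rfl; exact c1 s hs hs2 hsd haG
  have hsb : s ≠ b := by rintro rfl; exact c1 s hs hs2 hsd hbG
  have hab : a ≠ b := by rintro rfl; exact c2 a ha ha2 had hbd
  have dG : ∀ p : ℕ, p ∣ (q - 1) * (q ^ 2 + 1) → p ∣ Nat.card (Cfsg.Sz F m) := by
    intro p hp
    rw [hcardG]
    refine hp.trans ⟨q ^ 2, by ring⟩
  have ds : s ∣ Nat.card (Cfsg.Sz F m) := dG s (hsd.mul_right _)
  have da : a ∣ Nat.card (Cfsg.Sz F m) := dG a (haG.mul_left _)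
  have db : b ∣ Nat.card (Cfsg.Sz F m) := dG b (hbG.mul_left _)
  rcases Cfsg.Agent.S2251.result hm hF M hM with ⟨P0, hP0⟩ | ⟨U, hUc, hUk, hU⟩ | ⟨K, _, _, k, hk1, hkm, hK, hdiv, S, ⟨e⟩, hS⟩
  · refine Two.of_two_primes ha hb hab da db (fun h => ?_) (fun h => ?_)
    · have h1 := borel_prime hm hF P0 hP0 ha ha2 h
      rw [← hq] at h1
      exact c1 a ha ha2 h1 haG
    · have h1 := borel_prime hm hF P0 hP0 hb hb2 h
      rw [← hq] at h1
      exact c1 b hb hb2 h1 hbG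
  · have key : ∀ p : ℕ, p.Prime → p ≠ 2 → p ∣ Nat.card M → p ∣ Nat.card U := fun p hp hp2 h =>
      torus_prime hm hF U hUc hUk hU hp hp2 h
    rw [← hq, ← hr] at hUk
    simp only [Set.mem_insert_iff, Set.mem_singleton_iff] at hUk
    rcases hUk with hUk | hUk | hUk
    · rw [hUk] at key
      exact Two.of_two_primes ha hb hab da db (fun h => c1 a ha ha2 (key a ha ha2 h) haG)
        (fun h => c1 b hb hb2 (key b hb hb2 h) hbG)
    · rw [hUk] at key
      refine Two.of_two_primes hs hb hsb ds db (fun h => c1 s hs hs2 hsd ?_)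
        (fun h => c2 b hb hb2 (key b hb hb2 h) hbd)
      rw [e2]
      exact (key s hs hs2 h).mul_right _
    · rw [hUk] at key
      refine Two.of_two_primes hs ha hsa ds da (fun h => c1 s hs hs2 hsd ?_)
        (fun h => c2 a ha ha2 had (key a ha ha2 h))
      rw [e2]
      exact (key s hs hs2 h).mul_left _
  · -- a smaller Suzuki group
    obtain ⟨ρ, hρ, hρ1, hρ2, hρ3⟩ := Cfsg.Agent.Lib.Zsigmondy.exists_primitive (a := 2) (n := 4 * (2 * m + 1)) le_rfl
      (by omega) (by omega) (by omega)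
    obtain ⟨w, hw, hw1, hw2, hw3⟩ := Cfsg.Agent.Lib.Zsigmondy.exists_primitive (a := 2) (n := 2 * m + 1) le_rfl
      (by omega) (by omega) (by omega)
    have hS1 : ∀ p : ℕ, p.Prime → ¬ p ∣ 2 → p ∣ Nat.card M → p ∣ 2 ^ (4 * (2 * k + 1)) - 1 := by
      intro p hp hp2 h
      have h1 : p ∣ Nat.card S := h.trans (Subgroup.card_dvd_of_le hS)
      rw [Nat.card_congr e.toEquiv, Cfsg.Agent.S0324.result hk1 hK] at h1
      obtain ⟨s, hs⟩ : ∃ s, s = 2 ^ (2 * k + 1) := ⟨_, rfl⟩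
      rw [← hs] at h1
      have h2 : p ∣ s ^ 4 - 1 := by
        have e3 : s ^ 4 - 1 = (s ^ 2 + 1) * ((s - 1) * (s + 1)) := by
          have h3 : (s ^ 2) ^ 2 - 1 ^ 2 = (s ^ 2 + 1) * (s ^ 2 - 1) := Nat.sq_sub_sq _ _
          have h4 : s ^ 2 - 1 ^ 2 = (s + 1) * (s - 1) := Nat.sq_sub_sq _ _
          rw [one_pow] at h3 h4
          rw [h4, mul_comm (s + 1)] at h3
          rw [← h3, ← pow_mul]
        rw [e3]
        rcases hp.dvd_mul.1 h1 with h3 | h3
        · rcases hp.dvd_mul.1 h3 with h4 | h4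
          · have h5 := hp.dvd_of_dvd_pow h4
            rw [hs] at h5
            exact absurd (hp.dvd_of_dvd_pow h5) hp2
          · exact h4.mul_right _
        · exact (h3.mul_right _).mul_left _
      rwa [hs, ← pow_mul, mul_comm] at h2
    have hρq : ρ ∣ q ^ 2 + 1 := by
      have h1 : ρ ∣ q ^ 4 - 1 := by
        rw [hq, ← pow_mul]
        exact (hρ1 _).2 (by rw [mul_comm])
      have h2 : q ^ 4 - 1 = (q ^ 2 + 1) * (q ^ 2 - 1) := by
        have : (q ^ 2) ^ 2 - 1 ^ 2 = (q ^ 2 + 1) * (q ^ 2 - 1) := Nat.sq_sub_sq _ _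
        rw [← this, ← pow_mul, one_pow]
      rw [h2] at h1
      refine (hρ.dvd_mul.1 h1).resolve_right fun h => ?_
      rw [hq, ← pow_mul] at h
      have := (hρ1 _).1 h
      have := Nat.le_of_dvd (by omega) this
      omega
    have hwq : w ∣ q - 1 := by rw [hq]; exact (hw1 _).2 dvd_rfl
    have hw2' : w ≠ 2 := by rintro rfl; exact hw3 dvd_rfl
    refine Two.of_two_primes hρ hw (by rintro rfl; exact c1 ρ hρ hw2' hwq hρq) (dG ρ (hρq.mul_left _))
      (dG w (hwq.mul_right _)) (fun h => ?_) (fun h => ?_)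
    · have h1 := (hρ1 _).1 (hS1 ρ hρ hρ3 h)
      have := Nat.le_of_dvd (by omega) h1
      omega
    · have h1 := (hw1 _).1 (hS1 w hw hw3 h)
      have h2 : Nat.Coprime (2 * m + 1) 4 := by
        rw [show (4 : ℕ) = 2 ^ 2 by norm_num]
        apply Nat.Coprime.pow_right
        rw [Nat.coprime_comm, Nat.prime_two.coprime_iff_not_dvd]
        omega
      have h3 := h2.dvd_of_dvd_mul_left h1
      have := Nat.le_of_dvd (by omega) h3
      omega

/-- **the Suzuki groups** -/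
theorem two_sz {T : Type*} [Group T] (h : Cfsg.Lie.IsoSuzuki T) (M : Subgroup T) (hM : M ≠ ⊤) : Two T M := by
  obtain ⟨F, iF, iF', m, hm, hF, ⟨e⟩⟩ := h
  obtain ⟨f⟩ := Cfsg.Agent.OddCyclic.ClaimC.SzIso.iso hm hF
  refine Two.congr (f.trans e.symm) (two_sz_aux hm hF _ fun ht => hM ?_)
  rw [eq_top_iff]
  intro x _
  have : (f.trans e.symm).symm x ∈ M.comap (f.trans e.symm).toMonoidHom := by rw [ht]; trivial
  simpa using this

theorem row_sz {T : Type*} [Group T] (h : Cfsg.Lie.IsoSuzuki T) : Row T :=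
  fun M hM => Or.inl (two_sz h M hM.1)

end Cfsg.Agent.H768.Der
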